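import Cfsg.Agent.Lib.OrderCount.SameType
import Cfsg.Agent.Lib.OrderCount.Basic
import Cfsg.Agent.Lib.ClassMul.Main
import Cfsg.Agent.Lib.Coprime.SchurZassenhaus

/-!
Elementary local analysis: maximal involution-invariant `p`-subgroups, trivial intersection Sylow
subgroups, and Sylow direct factors.
-/

set_option autoImplicit false

namespace CfsgLib.LocalFG8

open Subgroup
open scoped Pointwise

variable {G : Type*} [Group G]

theorem mem_normalizer_of_conj_le [Finite G] {R : Subgroup G} {g : G}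
    (h : ∀ r ∈ R, g * r * g⁻¹ ∈ R) : g ∈ normalizer (R : Set G) := by
  rw [mem_normalizer_iff_map_conj_eq]
  refine eq_of_le_of_card_ge ?_ ?_
  · rintro _ ⟨r, hr, rfl⟩
    exact h r hr
  · rw [card_map_of_injective (MulAut.conj g).injective]

/-- S3981. -/
theorem maximal_invariant_iff [Finite G] {p : ℕ} [hp : Fact p.Prime] (Q : Subgroup G)
    (hQ : IsPGroup p ↥Q) (y : G) (hy : orderOf y = 2) (hyQ : y ∈ normalizer (Q : Set G)) :
    (∀ R : Subgroup G, IsPGroup p ↥R → Q ≤ R → y ∈ normalizer (R : Set G) → R = Q) ↔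
      ∀ x : G, x ∈ normalizer (Q : Set G) → x ∉ Q → x ^ p ∈ Q →
        (y * x * y⁻¹ * x ∉ Q ∧ y * x * y⁻¹ * x⁻¹ ∉ Q) := by
  have hyy : y * y = 1 := by rw [← pow_two, ← hy, pow_orderOf_eq_one]
  constructor
  · intro hmax x hxN hxQ hxp
    by_contra hcon
    rw [not_and_or, not_not, not_not] at hcon
    set R := Q ⊔ zpowers x with hR
    have hRp : IsPGroup p R := by
      refine IsPGroup.to_sup_of_normal_left' hQ ?_ (zpowers_le.2 hxN)
      obtain ⟨k, hk⟩ := hQ ⟨_, hxp⟩
      have hk' : x ^ p ^ (k + 1) = 1 := by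
        rw [pow_succ', pow_mul]
        exact congrArg Subtype.val hk
      rintro ⟨z, i, rfl⟩
      refine ⟨k + 1, Subtype.ext ?_⟩
      simp only [SubmonoidClass.coe_pow, coe_one]
      rw [← zpow_natCast, ← zpow_mul, mul_comm, zpow_mul, zpow_natCast, hk', one_zpow]
    have hxR : x ∈ R := le_sup_right (a := Q) (mem_zpowers x)
    have hyx : y * x * y⁻¹ ∈ R := by
      rcases hcon with h | h
      · simpa using mul_mem (le_sup_left (b := zpowers x) h) (inv_mem hxR)
      · simpa using mul_mem (le_sup_left (b := zpowers x) h) hxR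
    have hyR : y ∈ normalizer (R : Set G) := by
      refine mem_normalizer_of_conj_le fun r hr => ?_
      have : R ≤ R.comap (MulAut.conj y).toMonoidHom := by
        refine sup_le (fun q hq => ?_) (zpowers_le.2 hyx)
        exact le_sup_left (b := zpowers x) ((mem_normalizer_iff.1 hyQ q).1 hq)
      exact this hr
    exact hxQ (hmax R hRp le_sup_left hyR ▸ hxR)
  · intro h R hR hQR hyR
    by_contra hne
    -- `Q < M = R ⊓ N(Q)`
    set M := R ⊓ normalizer (Q : Set G) with hM
    have hQM : Q ≤ M := le_inf hQR le_normalizer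
    have hMne : ¬ M ≤ Q := by
      intro hle
      have : Group.IsNilpotent R := hR.isNilpotent
      have h1 := normalizerCondition_iff_only_full_group_self_normalizing.1
        Group.normalizerCondition_of_isNilpotent (Q.subgroupOf R) (by
          rw [← subgroupOf_normalizer_eq hQR]
          refine le_antisymm (fun r hr => hle ⟨r.2, hr⟩) (fun r hr => le_normalizer hr))
      exact hne (le_antisymm (subgroupOf_eq_top.1 h1) hQR)
    set Q' : Subgroup M := Q.subgroupOf M with hQ'
    have hQ'n : Q'.Normal := normal_subgroupOf_of_le_normalizer inf_le_right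
    have hMp : IsPGroup p (M ⧸ Q') := (hR.to_le inf_le_left).to_quotient Q'
    have : Nontrivial (M ⧸ Q') := by
      rw [QuotientGroup.nontrivial_iff]
      exact fun htop => hMne (subgroupOf_eq_top.1 htop)
    have := hMp.center_nontrivial
    obtain ⟨j, hj, hjc⟩ := (hMp.to_subgroup (center (M ⧸ Q'))).nontrivial_iff_card.1 this
    obtain ⟨zb, hzb⟩ := exists_prime_orderOf_dvd_card' p
      (show p ∣ Nat.card (center (M ⧸ Q')) from hjc ▸ dvd_pow_self p (Nat.pos_iff_ne_zero.1 hj))
    obtain ⟨z, hz⟩ := QuotientGroup.mk_surjective (zb : M ⧸ Q')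
    have hzp : (z : G) ^ p ∈ Q := by
      have h1 : (zb : M ⧸ Q') ^ p = 1 := by
        rw [← SubmonoidClass.coe_pow, ← hzb, pow_orderOf_eq_one]; rfl
      rw [← hz, ← QuotientGroup.mk_pow, QuotientGroup.eq_one_iff, mem_subgroupOf] at h1
      simpa using h1
    have hzQ : (z : G) ∉ Q := by
      intro hmem
      have : (zb : M ⧸ Q') = 1 := hz ▸ (QuotientGroup.eq_one_iff z).2 hmem
      rw [OneMemClass.coe_eq_one] at this
      rw [this, orderOf_one] at hzb
      exact hp.out.ne_one hzb.symm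
    have hyM : y ∈ normalizer (M : Set G) := by
      refine mem_normalizer_of_conj_le fun m hm => ⟨(mem_normalizer_iff.1 hyR m).1 hm.1, ?_⟩
      exact (normalizer (Q : Set G)).mul_mem ((normalizer (Q : Set G)).mul_mem hyQ hm.2)
        ((normalizer (Q : Set G)).inv_mem hyQ)
    have hzM : y * z * y⁻¹ ∈ M := (mem_normalizer_iff.1 hyM _).1 z.2
    set w : M := ⟨y * z * y⁻¹, hzM⟩ with hw
    have hcom : Commute (z : M ⧸ Q') (w : M ⧸ Q') := by
      rw [hz]; exact (mem_center_iff.1 zb.2 (w : M ⧸ Q')).symm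
    have hwp : ((w : M ⧸ Q')) ^ p = 1 := by
      rw [← QuotientGroup.mk_pow, QuotientGroup.eq_one_iff, mem_subgroupOf]
      simp only [SubmonoidClass.coe_pow, hw, conj_pow]
      exact (mem_normalizer_iff.1 hyQ _).1 hzp
    have hzp' : ((z : M ⧸ Q')) ^ p = 1 := by
      rw [← QuotientGroup.mk_pow, QuotientGroup.eq_one_iff, mem_subgroupOf]
      simpa using hzp
    have hswap : ((z * w : M) : M ⧸ Q') = ((w * z : M) : M ⧸ Q') := by
      rw [QuotientGroup.mk_mul, QuotientGroup.mk_mul, hcom.eq]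
    by_cases hcase : (z : G) * (y * z * y⁻¹) ∈ Q
    · have h1 : ((w * z : M) : G) ∈ Q := by
        have : ((z * w : M) : M ⧸ Q') = 1 := (QuotientGroup.eq_one_iff _).2 hcase
        rw [hswap, QuotientGroup.eq_one_iff] at this
        exact this
      exact (h z z.2.2 hzQ hzp).1 h1
    · have hxp : ((z : G) * (y * z * y⁻¹)) ^ p ∈ Q := by
        have : ((z * w : M) : M ⧸ Q') ^ p = 1 := by
          rw [QuotientGroup.mk_mul, hcom.mul_pow, hzp', hwp, one_mul]
        rw [← QuotientGroup.mk_pow, QuotientGroup.eq_one_iff, mem_subgroupOf] at this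
        simpa using this
      refine (h _ (mul_mem z.2.2 hzM.2) hcase hxp).2 ?_
      have h1 : ((w * z * (z * w)⁻¹ : M) : M ⧸ Q') = 1 := by
        rw [QuotientGroup.mk_mul, QuotientGroup.mk_inv, hswap, mul_inv_cancel]
      rw [QuotientGroup.eq_one_iff, mem_subgroupOf] at h1
      have hyi : y⁻¹ = y := inv_eq_of_mul_eq_one_right hyy
      have h2 : y * ((z : G) * (y * z * y⁻¹)) * y⁻¹ = (y * z * y⁻¹) * z := by
        rw [hyi]
        calc y * ((z : G) * (y * z * y)) * y = (y * z * y) * z * (y * y) := by group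
          _ = y * z * y * z := by rw [hyy, mul_one]
      rw [h2]
      simpa [hw] using h1

theorem inverts_of_involution [Finite G] {p : ℕ} [hp : Fact p.Prime]
    (hC : ∀ g : G, g ≠ 1 → (∃ k : ℕ, orderOf g = p ^ k) →
      Odd (Nat.card (centralizer ({g} : Set G))))
    {R : Subgroup G} (hR : IsPGroup p R) {t : G} (ht : orderOf t = 2)
    (htR : t ∈ normalizer (R : Set G)) : ∀ r ∈ R, t * r * t⁻¹ = r⁻¹ := by
  have htt : t * t = 1 := by rw [← pow_two, ← ht, pow_orderOf_eq_one]
  let φ : R →* R :=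
    { toFun := fun r => ⟨t * r * t⁻¹, (mem_normalizer_iff.1 htR r).1 r.2⟩
      map_one' := by ext; simp
      map_mul' := fun a b => by ext; simp [mul_assoc] }
  have hfpf : MonoidHom.FixedPointFree φ := by
    intro r hr
    by_contra hne
    have hr' : t * r * t⁻¹ = (r : G) := congrArg Subtype.val hr
    obtain ⟨k, hk⟩ := IsPGroup.iff_orderOf.1 hR r
    have hodd := hC r (fun h => hne (Subtype.ext h)) ⟨k, by rw [orderOf_coe]; exact hk⟩
    have hmem : t ∈ centralizer ({(r : G)} : Set G) :=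
      mem_centralizer_singleton_iff.2 (mul_inv_eq_iff_eq_mul.1 hr')
    have := orderOf_dvd_natCard (⟨t, hmem⟩ : centralizer ({(r : G)} : Set G))
    rw [orderOf_mk, ht] at this
    exact hodd.not_two_dvd_nat this
  have hinv : Function.Involutive φ := by
    intro r
    ext
    show t * (t * (r : G) * t⁻¹) * t⁻¹ = r
    calc t * (t * (r : G) * t⁻¹) * t⁻¹ = (t * t) * r * (t * t)⁻¹ := by group
      _ = r := by rw [htt, one_mul, inv_one, mul_one]
  intro r hr
  exact congrArg Subtype.val (congrFun (hfpf.coe_eq_inv_of_involutive hinv) ⟨r, hr⟩)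

theorem exists_involution_normalizing [Finite G] {R : Subgroup G}
    (h : Even (Nat.card (normalizer (R : Set G)))) :
    ∃ t ∈ normalizer (R : Set G), orderOf t = 2 := by
  have : Fact (Nat.Prime 2) := ⟨Nat.prime_two⟩
  obtain ⟨t, ht⟩ := exists_prime_orderOf_dvd_card' 2 h.two_dvd
  exact ⟨t, t.2, by rw [orderOf_coe, ht]⟩

/-- S3982. -/
theorem even_normalizer_sylow [Finite G] {p : ℕ} [hp : Fact p.Prime] (hp2 : p ≠ 2)
    (hC : ∀ g : G, g ≠ 1 → (∃ k : ℕ, orderOf g = p ^ k) →
      Odd (Nat.card (centralizer ({g} : Set G))))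
    (Q : Subgroup G) (hQ : IsPGroup p ↥Q) (hQ1 : Q ≠ ⊥)
    (hev : Even (Nat.card (normalizer (Q : Set G)))) (P : Sylow p G) :
    Even (Nat.card (normalizer ((P : Subgroup G) : Set G))) := by
  obtain ⟨R, ⟨hR, hR1, hRev⟩, hmax⟩ := Set.Finite.exists_maximalFor (fun S : Subgroup G => Nat.card S)
    {S : Subgroup G | IsPGroup p S ∧ S ≠ ⊥ ∧ Even (Nat.card (normalizer (S : Set G)))}
    (Set.toFinite _) ⟨Q, hQ, hQ1, hev⟩
  obtain ⟨S, hRS⟩ := hR.exists_le_sylow
  rcases eq_or_ne R (S : Subgroup G) with heq | hne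
  · obtain ⟨g, rfl⟩ := MulAction.exists_smul_eq G S P
    have h1 := Subgroup.map_normalizer_eq_of_bijective (H := (S : Subgroup G))
      (f := (MulAut.conj g).toMonoidHom) (MulAut.conj g).bijective
    rw [Sylow.smul_def, Sylow.pointwise_smul_def]
    show Even (Nat.card (normalizer
      (((S : Subgroup G).map (MulAut.conj g).toMonoidHom : Subgroup G) : Set G)))
    rw [← h1, card_map_of_injective (MulAut.conj g).injective]
    exact heq ▸ hRev
  exfalso
  obtain ⟨t, htN, ht⟩ := exists_involution_normalizing hRev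
  have htt : t * t = 1 := by rw [← pow_two, ← ht, pow_orderOf_eq_one]
  have hinv := inverts_of_involution hC hR ht htN
  -- the centralizer of `R` has odd order
  obtain ⟨r₀, hr₀, hr₀1⟩ : ∃ r ∈ R, r ≠ 1 := by
    obtain ⟨⟨r, hr⟩, hr1⟩ := Subgroup.ne_bot_iff_exists_ne_one.1 hR1
    exact ⟨r, hr, fun h => hr1 (Subtype.ext h)⟩
  have hCodd : ∀ c ∈ centralizer (R : Set G), Odd (orderOf c) := by
    intro c hc
    obtain ⟨k, hk⟩ := IsPGroup.iff_orderOf.1 hR ⟨r₀, hr₀⟩
    rw [orderOf_mk] at hk
    have hmem : c ∈ centralizer ({r₀} : Set G) := centralizer_le (Set.singleton_subset_iff.2 hr₀) hc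
    have := orderOf_dvd_natCard (⟨c, hmem⟩ : centralizer ({r₀} : Set G))
    rw [orderOf_mk] at this
    exact (hC r₀ hr₀1 ⟨k, hk⟩).of_dvd_nat this
  -- a `p`-subgroup of the normalizer properly above `R`
  set M := (S : Subgroup G) ⊓ normalizer (R : Set G) with hM
  have hRM : ¬ M ≤ R := by
    intro hle
    have : Group.IsNilpotent (S : Subgroup G) := S.2.isNilpotent
    have h1 := normalizerCondition_iff_only_full_group_self_normalizing.1
      Group.normalizerCondition_of_isNilpotent (R.subgroupOf S) (by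
        rw [← subgroupOf_normalizer_eq hRS]
        refine le_antisymm (fun r hr => hle ⟨r.2, hr⟩) (fun r hr => le_normalizer hr))
    exact hne (le_antisymm hRS (subgroupOf_eq_top.1 h1))
  have hMp : IsPGroup p M := S.2.to_le inf_le_left
  by_cases hMC : M ≤ centralizer (R : Set G)
  · -- a Sylow subgroup of the centralizer has even normalizer
    set N := normalizer (R : Set G) with hN
    have hCN : centralizer (R : Set G) ≤ N := centralizer_le_normalizer _
    set C : Subgroup N := (centralizer (R : Set G)).subgroupOf N with hC'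
    have hCn : C.Normal := by
      refine ⟨fun c hc n => ?_⟩
      rw [hC', mem_subgroupOf, mem_centralizer_iff] at hc ⊢
      intro r hr
      simp only [coe_mul, InvMemClass.coe_inv]
      have h1 := hc ((n : G)⁻¹ * r * n) (by
        simpa using (mem_normalizer_iff''.1 n.2 r).1 hr)
      calc r * ((n : G) * c * (n : G)⁻¹) = n * (((n : G)⁻¹ * r * n) * c) * (n : G)⁻¹ := by group
        _ = n * (c * ((n : G)⁻¹ * r * n)) * (n : G)⁻¹ := by rw [h1]
        _ = n * c * (n : G)⁻¹ * r := by group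
    let T : Sylow p C := default
    have htop := Sylow.normalizer_sup_eq_top T
    set T' : Subgroup N := (T : Subgroup C).map C.subtype with hT'
    set T'' : Subgroup G := T'.map N.subtype with hT''
    have h2 : 2 ∣ Nat.card (normalizer (T' : Set N)) := by
      have hsurj : (normalizer (T' : Set N)).map (QuotientGroup.mk' C) = ⊤ := by
        have h3 := congrArg (Subgroup.map (QuotientGroup.mk' C)) htop
        rwa [Subgroup.map_sup, (map_eq_bot_iff C).2 (QuotientGroup.ker_mk' C).ge, sup_bot_eq,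
          ← MonoidHom.range_eq_map, MonoidHom.range_eq_top.2 (QuotientGroup.mk'_surjective C)] at h3
      refine dvd_trans ?_ (card_map_dvd (normalizer (T' : Set N)) (QuotientGroup.mk' C))
      rw [hsurj, card_top]
      have hord : orderOf ((⟨t, htN⟩ : N) : N ⧸ C) = 2 := by
        refine orderOf_eq_prime ?_ ?_
        · rw [← QuotientGroup.mk_pow, pow_two, QuotientGroup.eq_one_iff,
            show (⟨t, htN⟩ : N) * ⟨t, htN⟩ = 1 from Subtype.ext htt]
          exact one_mem _
        · rw [Ne, QuotientGroup.eq_one_iff]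
          intro hmem
          have := hCodd t hmem
          rw [ht] at this
          exact Nat.not_odd_iff_even.2 even_two this
      exact hord ▸ orderOf_dvd_natCard _
    have hT''p : IsPGroup p T'' := (T.2.map _).map _
    have hT''even : Even (Nat.card (normalizer (T'' : Set G))) := by
      refine even_iff_two_dvd.2 (h2.trans ?_)
      calc Nat.card (normalizer (T' : Set N))
          = Nat.card ((normalizer (T' : Set N)).map N.subtype) :=
            (card_map_of_injective N.subtype_injective).symm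
        _ ∣ _ := card_dvd_of_le (le_normalizer_map _)
    have hRle : R < T'' := by
      have hcard : Nat.card T'' = Nat.card (T : Subgroup C) := by
        rw [hT'', hT', card_map_of_injective N.subtype_injective,
          card_map_of_injective C.subtype_injective]
      have hRC : R ≤ centralizer (R : Set G) := by
        intro r hr
        rw [mem_centralizer_iff]
        intro s hs
        have e1 := hinv (s * r) (mul_mem hs hr)
        rw [mul_inv_rev, ← hinv s hs, ← hinv r hr] at e1
        have e2 : t * (s * r) * t⁻¹ = t * (r * s) * t⁻¹ := by rw [e1]; group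
        simpa using e2
      -- `R` is normal in `C`
      set R' : Subgroup C := (R.subgroupOf N).subgroupOf C with hR'
      have hR'n : R'.Normal := ⟨fun r hr c => by
        rw [hR', mem_subgroupOf, mem_subgroupOf] at hr ⊢
        simp only [coe_mul, InvMemClass.coe_inv]
        exact (mem_normalizer_iff.1 c.1.2 _).1 hr⟩
      have hR'p : IsPGroup p R' :=
        hR.comap_of_injective (N.subtype.comp C.subtype)
          (N.subtype_injective.comp C.subtype_injective)
      have hR'T : R' ≤ T := by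
        obtain ⟨U, hU⟩ := hR'p.exists_le_sylow
        obtain ⟨c, hcT⟩ := MulAction.exists_smul_eq C U T
        intro x hx
        rw [← hcT, Sylow.smul_def, Sylow.pointwise_smul_def]
        exact ⟨c⁻¹ * x * c, hU (by simpa using hR'n.conj_mem x hx c⁻¹), by simp [mul_assoc]⟩
      have hle : R ≤ T'' := fun r hr =>
        ⟨⟨r, hCN (hRC hr)⟩, ⟨⟨⟨r, hCN (hRC hr)⟩, hRC hr⟩, hR'T hr, rfl⟩, rfl⟩
      refine lt_of_le_of_ne hle fun heq => hRM ?_
      have hMT : Nat.card M ∣ Nat.card (T : Subgroup C) := by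
        set M' : Subgroup C := (M.subgroupOf N).subgroupOf C
        have hM'card : Nat.card M' = Nat.card M := by
          rw [← card_map_of_injective C.subtype_injective, subgroupOf_map_subtype,
            inf_eq_left.2 (fun x hx => (hMC (mem_subgroupOf.1 hx) : _)),
            Nat.card_congr (subgroupOfEquivOfLe inf_le_right).toEquiv]
        obtain ⟨U, hU⟩ := ((hMp.comap_of_injective (N.subtype.comp C.subtype)
          (N.subtype_injective.comp C.subtype_injective)) : IsPGroup p M').exists_le_sylow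
        rw [← hM'card, T.card_eq_multiplicity, ← U.card_eq_multiplicity]
        exact card_dvd_of_le hU
      rw [← hcard, ← heq] at hMT
      have hRleM : R ≤ M := le_inf hRS le_normalizer
      exact (eq_of_le_of_card_ge hRleM (Nat.le_of_dvd Nat.card_pos hMT)).ge
    exact absurd (hmax ⟨hT''p, fun h => not_lt_bot (h ▸ hRle), hT''even⟩
      (card_le_of_le hRle.le)) (not_le.2 (Set.Finite.card_lt_card (Set.toFinite _) hRle))
  · -- an element of order `p` commuting with an involution
    obtain ⟨u, huM, huC⟩ := SetLike.not_le_iff_exists.1 hMC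
    have huN : u ∈ normalizer (R : Set G) := huM.2
    set c := t⁻¹ * (u * t * u⁻¹) with hc
    have hcC : c ∈ centralizer (R : Set G) := by
      rw [mem_centralizer_iff]
      intro r hr
      have hr' : u⁻¹ * r * u ∈ R := (mem_normalizer_iff''.1 huN r).1 hr
      have e1 : (u * t * u⁻¹) * r * (u * t * u⁻¹)⁻¹ = r⁻¹ := by
        calc (u * t * u⁻¹) * r * (u * t * u⁻¹)⁻¹ = u * (t * (u⁻¹ * r * u) * t⁻¹) * u⁻¹ := by group
          _ = u * (u⁻¹ * r * u)⁻¹ * u⁻¹ := by rw [hinv _ hr']
          _ = r⁻¹ := by group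
      have e2 : c * r * c⁻¹ = r := by
        calc c * r * c⁻¹ = t⁻¹ * ((u * t * u⁻¹) * r * (u * t * u⁻¹)⁻¹) * t := by rw [hc]; group
          _ = t⁻¹ * (t * r * t⁻¹) * t := by rw [e1, hinv r hr]
          _ = r := by group
      exact (mul_inv_eq_iff_eq_mul.1 e2).symm
    have hti : t⁻¹ = t := inv_eq_of_mul_eq_one_right htt
    have hct : t * c * t⁻¹ = c⁻¹ := by
      rw [hc, hti]
      calc t * (t * (u * t * u⁻¹)) * t = (t * t) * (u * t * u⁻¹) * t := by group
        _ = u * t * u⁻¹ * t := by rw [htt, one_mul]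
        _ = (t⁻¹ * (u * t⁻¹ * u⁻¹))⁻¹ := by group
        _ = _ := by rw [hti]
    -- a square root of `c`
    obtain ⟨k, hk⟩ := hCodd c hcC
    set d := c ^ (k + 1) with hd
    have hd2 : d * d = c := by
      rw [hd, ← pow_add, show k + 1 + (k + 1) = orderOf c + 1 by omega, pow_succ,
        pow_orderOf_eq_one, one_mul]
    have hdt : t * d * t⁻¹ = d⁻¹ := by rw [hd, ← conj_pow, hct, inv_pow]
    set e := d * u with he
    have het : Commute e t := by
      rw [commute_iff_eq, he]
      have h1 : u * t = t * c * u := by rw [hc]; group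
      calc d * u * t = d * t * c * u := by rw [mul_assoc d u t, h1]; group
        _ = t * (t⁻¹ * d * t) * (d * d) * u := by rw [hd2]; group
        _ = t * d⁻¹ * (d * d) * u := by
            have : t⁻¹ * d * t = d⁻¹ := by
              have := hdt; rwa [hti] at this ⊢
            rw [this]
        _ = t * (d * u) := by group
    have hpe : p ∣ orderOf e := by
      have hdC : d ∈ centralizer (R : Set G) := pow_mem hcC _
      set N := normalizer (R : Set G)
      set C : Subgroup N := (centralizer (R : Set G)).subgroupOf N with hC'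
      have hCn : C.Normal := by
        refine ⟨fun c hc n => ?_⟩
        rw [hC', mem_subgroupOf, mem_centralizer_iff] at hc ⊢
        intro r hr
        simp only [coe_mul, InvMemClass.coe_inv]
        have h1 := hc ((n : G)⁻¹ * r * n) (by
          simpa using (mem_normalizer_iff''.1 n.2 r).1 hr)
        calc r * ((n : G) * c * (n : G)⁻¹) = n * (((n : G)⁻¹ * r * n) * c) * (n : G)⁻¹ := by group
          _ = n * (c * ((n : G)⁻¹ * r * n)) * (n : G)⁻¹ := by rw [h1]
          _ = n * c * (n : G)⁻¹ * r := by group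
      have hdN : d ∈ N := centralizer_le_normalizer _ hdC
      have hee : ((⟨e, mul_mem hdN huN⟩ : N) : N ⧸ C) = ((⟨u, huN⟩ : N) : N ⧸ C) := by
        rw [show (⟨e, mul_mem hdN huN⟩ : N) = ⟨d, hdN⟩ * ⟨u, huN⟩ from rfl, QuotientGroup.mk_mul,
          (QuotientGroup.eq_one_iff (⟨d, hdN⟩ : N)).2 hdC, one_mul]
      obtain ⟨a, ha⟩ := IsPGroup.iff_orderOf.1 hMp ⟨u, huM⟩
      rw [orderOf_mk] at ha
      have h1 : orderOf ((⟨u, huN⟩ : N) : N ⧸ C) ∣ p ^ a :=
        (orderOf_map_dvd (QuotientGroup.mk' C) _).trans (by rw [orderOf_mk, ha])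
      obtain ⟨b, -, hb⟩ := (Nat.dvd_prime_pow hp.out).1 h1
      rcases b with _ | b
      · rw [pow_zero, orderOf_eq_one_iff, QuotientGroup.eq_one_iff] at hb
        exact absurd hb huC
      refine (dvd_pow_self p (Nat.succ_ne_zero b)).trans (hb ▸ ?_)
      rw [← hee, ← orderOf_mk e (mul_mem hdN huN)]
      exact orderOf_map_dvd (QuotientGroup.mk' C) _
    set v := e ^ (orderOf e / p)
    have hv : orderOf v = p := orderOf_pow_orderOf_div (orderOf_pos e).ne' hpe
    have hodd := hC v (fun h => hp.out.ne_one (by rw [← hv, h, orderOf_one])) ⟨1, by rw [hv, pow_one]⟩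
    have hmem : t ∈ centralizer ({v} : Set G) :=
      mem_centralizer_singleton_iff.2 (het.pow_left _).symm
    have := orderOf_dvd_natCard (⟨t, hmem⟩ : centralizer ({v} : Set G))
    rw [orderOf_mk, ht] at this
    exact hodd.not_two_dvd_nat this

/-! ### Trivial intersection Sylow subgroups -/

/-- The elementwise form of the TI condition. -/
theorem ti_iff (P : Subgroup G) :
    (∀ g : G, g ∉ normalizer (P : Set G) → P ⊓ (MulAut.conj g • P) = ⊥) ↔
      ∀ g x : G, x ∈ P → g⁻¹ * x * g ∈ P → x ≠ 1 → g ∈ normalizer (P : Set G) := by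
  constructor
  · intro h g x hx hgx hne
    by_contra hg
    refine hne (mem_bot.1 (h g hg ▸ ⟨hx, ?_⟩))
    exact Coprime.mem_conj_smul.2 hgx
  · intro h g hg
    rw [eq_bot_iff_forall]
    rintro x ⟨hx, hgx⟩
    by_contra hne
    exact hg (h g x hx (Coprime.mem_conj_smul.1 hgx) hne)

theorem ti_all_sylow [Finite G] {p : ℕ} [Fact p.Prime] (P : Sylow p G)
    (h : ∀ g x : G, x ∈ (P : Subgroup G) → g⁻¹ * x * g ∈ (P : Subgroup G) → x ≠ 1 →
      g ∈ normalizer ((P : Subgroup G) : Set G)) (P' : Sylow p G) :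
    ∀ g x : G, x ∈ (P' : Subgroup G) → g⁻¹ * x * g ∈ (P' : Subgroup G) → x ≠ 1 →
      g ∈ normalizer ((P' : Subgroup G) : Set G) := by
  obtain ⟨a, rfl⟩ := MulAction.exists_smul_eq G P P'
  intro g x hx hgx hne
  rw [Sylow.smul_def, Sylow.pointwise_smul_def] at hx hgx ⊢
  obtain ⟨x₀, hx₀, rfl⟩ := hx
  obtain ⟨x₁, hx₁, hx₁'⟩ := hgx
  simp only [MulDistribMulAction.toMonoidEnd_apply, MulDistribMulAction.toMonoidHom_apply,
    MulAut.smul_def, MulAut.conj_apply] at hne hx₁'
  have h1 := h (a⁻¹ * g * a) x₀ hx₀ (by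
    rw [show (a⁻¹ * g * a)⁻¹ * x₀ * (a⁻¹ * g * a) = x₁ by
      calc (a⁻¹ * g * a)⁻¹ * x₀ * (a⁻¹ * g * a) = a⁻¹ * (g⁻¹ * (a * x₀ * a⁻¹) * g) * a := by group
        _ = a⁻¹ * (a * x₁ * a⁻¹) * a := by rw [hx₁']
        _ = x₁ := by group]
    exact hx₁) (fun h0 => hne (by rw [h0]; group))
  refine mem_normalizer_of_conj_le fun r hr => ?_
  obtain ⟨r₀, hr₀, rfl⟩ := hr
  refine ⟨(a⁻¹ * g * a) * r₀ * (a⁻¹ * g * a)⁻¹, (mem_normalizer_iff.1 h1 r₀).1 hr₀, ?_⟩
  simp [mul_assoc]

/-- S3983. -/
theorem ti_subgroup [Finite G] {p : ℕ} [Fact p.Prime] (P : Sylow p G)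
    (h : ∀ g x : G, x ∈ (P : Subgroup G) → g⁻¹ * x * g ∈ (P : Subgroup G) → x ≠ 1 →
      g ∈ normalizer ((P : Subgroup G) : Set G)) (U : Subgroup G) (Q : Sylow p U) :
    ∀ g x : U, x ∈ (Q : Subgroup U) → g⁻¹ * x * g ∈ (Q : Subgroup U) → x ≠ 1 →
      g ∈ normalizer ((Q : Subgroup U) : Set U) := by
  obtain ⟨P', hP'⟩ := (Q.2.map U.subtype).exists_le_sylow
  have hQ : ((P' : Subgroup G).subgroupOf U) = Q :=
    Q.3 (P'.2.comap_of_injective U.subtype U.subtype_injective) (fun x hx => hP' ⟨x, hx, rfl⟩)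
  intro g x hx hgx hne
  have h1 := ti_all_sylow P h P' g x (hP' ⟨x, hx, rfl⟩) (by
    simpa using hP' ⟨_, hgx, rfl⟩) (fun h0 => hne (Subtype.ext h0))
  refine mem_normalizer_of_conj_le fun r hr => ?_
  rw [← hQ, mem_subgroupOf] at hr ⊢
  simpa using (mem_normalizer_iff.1 h1 r).1 hr

/-- S3984. -/
theorem ti_quotient [Finite G] {p : ℕ} [hp : Fact p.Prime] (P : Sylow p G)
    (h : ∀ g x : G, x ∈ (P : Subgroup G) → g⁻¹ * x * g ∈ (P : Subgroup G) → x ≠ 1 →
      g ∈ normalizer ((P : Subgroup G) : Set G)) (N : Subgroup G) [N.Normal]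
    (hN : (Nat.card N).Coprime p) (Q : Sylow p (G ⧸ N)) :
    ∀ g x : G ⧸ N, x ∈ (Q : Subgroup (G ⧸ N)) → g⁻¹ * x * g ∈ (Q : Subgroup (G ⧸ N)) → x ≠ 1 →
      g ∈ normalizer ((Q : Subgroup (G ⧸ N)) : Set (G ⧸ N)) := by
  obtain ⟨P', rfl⟩ := Sylow.mapSurjective_surjective (QuotientGroup.mk'_surjective N) p Q
  intro gb xb hx hgx hne
  rw [Sylow.coe_mapSurjective] at hx hgx ⊢
  obtain ⟨g, rfl⟩ := QuotientGroup.mk'_surjective N gb
  obtain ⟨a, ha, rfl⟩ := hx
  obtain ⟨b, hb, hb'⟩ := hgx
  set b' := g * b * g⁻¹ with hb'def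
  -- elements of `p`-power order are determined up to order by their images
  have hord : ∀ z : G, z ∈ (P' : Subgroup G) →
      orderOf (QuotientGroup.mk' N z) = orderOf z := by
    intro z hz
    refine Nat.dvd_antisymm (orderOf_map_dvd _ z) (orderOf_dvd_of_pow_eq_one ?_)
    have h1 : z ^ orderOf (QuotientGroup.mk' N z) ∈ N := by
      rw [← QuotientGroup.eq_one_iff, QuotientGroup.mk_pow]
      exact pow_orderOf_eq_one _
    refine orderOf_eq_one_iff.1 (Nat.eq_one_of_dvd_coprimes hN (N.orderOf_dvd_natCard h1) ?_ )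
    obtain ⟨k, hk⟩ := IsPGroup.iff_orderOf.1 P'.2 ⟨_, pow_mem hz (orderOf (QuotientGroup.mk' N z))⟩
    rw [orderOf_mk] at hk
    rcases k with _ | k
    · exact hk ▸ one_dvd _
    · exfalso
      have := N.orderOf_dvd_natCard h1
      rw [hk] at this
      exact hp.out.coprime_iff_not_dvd.1 hN.symm ((dvd_pow_self p (Nat.succ_ne_zero k)).trans this)
  have hb'' : QuotientGroup.mk' N b' = QuotientGroup.mk' N a := by
    rw [hb'def, map_mul, map_mul, map_inv, hb']; group
  set H := zpowers a ⊔ N with hH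
  have hbH : b' ∈ H := by
    have h1 : a⁻¹ * b' ∈ N := QuotientGroup.eq.1 hb''.symm
    simpa using mul_mem (le_sup_left (b := N) (mem_zpowers a)) (le_sup_right (a := zpowers a) h1)
  have ho : orderOf b' = orderOf a := by
    rw [hb'def, OrderCount.orderOf_conj', ← hord b hb, ← hord a ha, hb']
    have := OrderCount.orderOf_conj' (QuotientGroup.mk' N g)⁻¹ (QuotientGroup.mk' N a)
    rw [inv_inv] at this
    exact this
  -- both cyclic groups are Sylow subgroups of `H`
  have hsylow : ∀ z : G, z ∈ H → orderOf z = orderOf a →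
      IsPGroup p ((zpowers z).subgroupOf H) ∧ ¬ p ∣ ((zpowers z).subgroupOf H).index := by
    intro z hz hzo
    obtain ⟨k, hk⟩ := IsPGroup.iff_orderOf.1 P'.2 ⟨a, ha⟩
    rw [orderOf_mk] at hk
    have hzcard : Nat.card ((zpowers z).subgroupOf H) = p ^ k := by
      rw [Nat.card_congr (subgroupOfEquivOfLe (zpowers_le.2 hz)).toEquiv, Nat.card_zpowers, hzo, hk]
    refine ⟨IsPGroup.of_card hzcard, fun hd => ?_⟩
    have h1 : Nat.card H ∣ Nat.card N * p ^ k := by
      rw [hH, sup_comm, ← hk, ← Nat.card_zpowers a]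
      exact PCore.card_sup_dvd_mul N (zpowers a)
    have h2 : p * p ^ k ∣ Nat.card N * p ^ k := by
      refine dvd_trans ?_ h1
      rw [← index_mul_card ((zpowers z).subgroupOf H), hzcard]
      exact Nat.mul_dvd_mul_right hd _
    exact hp.out.coprime_iff_not_dvd.1 hN.symm (Nat.dvd_of_mul_dvd_mul_right (pow_pos hp.out.pos k) h2)
  have haH : a ∈ H := le_sup_left (b := N) (mem_zpowers a)
  obtain ⟨s1, s2⟩ := hsylow a haH rfl
  obtain ⟨t1, t2⟩ := hsylow b' hbH ho
  obtain ⟨c, hc⟩ := MulAction.exists_smul_eq H (s1.toSylow s2) (t1.toSylow t2)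
  have hbmem : (⟨b', hbH⟩ : H) ∈ MulAut.conj c • (zpowers a).subgroupOf H := by
    have hcc := congrArg (fun S : Sylow p H => (S : Subgroup H)) hc
    simp only [Sylow.smul_def, Sylow.pointwise_smul_def, IsPGroup.toSylow_coe] at hcc
    rw [hcc]
    exact mem_subgroupOf.2 (mem_zpowers b')
  rw [Coprime.mem_conj_smul, mem_subgroupOf] at hbmem
  obtain ⟨i, hi⟩ := mem_zpowers_iff.1 hbmem
  simp only [coe_mul, InvMemClass.coe_inv] at hi
  -- `c` may be taken in `N`
  obtain ⟨n, hn, a', ha', hca⟩ := mem_sup_of_normal_left.1 (show (c : G) ∈ N ⊔ zpowers a from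
    sup_comm (zpowers a) N ▸ c.2)
  obtain ⟨j, rfl⟩ := mem_zpowers_iff.1 ha'
  have hbi : g * b * g⁻¹ = n * a ^ i * n⁻¹ := by
    have h3 : n⁻¹ * b' * n = a ^ i := by
      have h4 : a ^ (-j) * (n⁻¹ * b' * n) * a ^ j = a ^ i := by rw [hi, ← hca]; group
      calc n⁻¹ * b' * n = a ^ j * (a ^ (-j) * (n⁻¹ * b' * n) * a ^ j) * a ^ (-j) := by group
        _ = a ^ i := by rw [h4]; group
    rw [← h3, hb'def]; group
  have hne' : a ^ i ≠ 1 := by
    intro h0
    rw [h0, mul_one, mul_inv_cancel] at hbi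
    refine hne ?_
    rw [← hb'', hb'def, hbi, map_one]
  have hT := ti_all_sylow P h P' (n⁻¹ * g) (a ^ i) (zpow_mem ha i) (by
    rw [show (n⁻¹ * g)⁻¹ * a ^ i * (n⁻¹ * g) = b by
      calc (n⁻¹ * g)⁻¹ * a ^ i * (n⁻¹ * g) = g⁻¹ * (n * a ^ i * n⁻¹) * g := by group
        _ = g⁻¹ * (g * b * g⁻¹) * g := by rw [hbi]
        _ = b := by group]
    exact hb) hne'
  have := le_normalizer_map (QuotientGroup.mk' N) ⟨_, hT, rfl⟩
  rwa [map_mul, map_inv, show QuotientGroup.mk' N n = 1 from (QuotientGroup.eq_one_iff n).2 hn,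
    inv_one, one_mul] at this

/-- S3985. -/
theorem ti_iff_of_isCyclic [Finite G] {p : ℕ} [hp : Fact p.Prime] (P : Sylow p G)
    (hcyc : IsCyclic (P : Subgroup G)) :
    (∀ g x : G, x ∈ (P : Subgroup G) → g⁻¹ * x * g ∈ (P : Subgroup G) → x ≠ 1 →
      g ∈ normalizer ((P : Subgroup G) : Set G)) ↔
    ∀ x : G, x ∈ (P : Subgroup G) → x ≠ 1 →
      centralizer ({x} : Set G) = centralizer ((P : Subgroup G) : Set G) := by
  obtain ⟨⟨c, hc⟩, hgen⟩ := hcyc.exists_generator
  have hgen' : ∀ z ∈ (P : Subgroup G), z ∈ zpowers c := fun z hz => by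
    obtain ⟨i, hi⟩ := mem_zpowers_iff.1 (hgen ⟨z, hz⟩)
    exact ⟨i, congrArg Subtype.val hi⟩
  have hcent : ∀ z : G, Commute z c → z ∈ centralizer ((P : Subgroup G) : Set G) := by
    intro z hz
    rw [mem_centralizer_iff]
    intro w hw
    obtain ⟨i, rfl⟩ := mem_zpowers_iff.1 (hgen' w hw)
    exact (hz.zpow_right i).symm
  constructor
  · intro h x hx hx1
    refine le_antisymm (fun g hg => hcent g ?_) (centralizer_le (Set.singleton_subset_iff.2 hx))
    have hgx : Commute g x := mem_centralizer_singleton_iff.1 hg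
    have hgN := h g x hx (by rw [mul_assoc, ← hgx.eq, inv_mul_cancel_left]; exact hx) hx1
    obtain ⟨i, hi⟩ := mem_zpowers_iff.1 (hgen' x hx)
    obtain ⟨r, hr⟩ := mem_zpowers_iff.1 (hgen' _ ((mem_normalizer_iff.1 hgN c).1 hc))
    obtain ⟨a, ha⟩ := IsPGroup.iff_orderOf.1 P.2 ⟨c, hc⟩
    rw [orderOf_mk] at ha
    have hiter : ∀ n : ℕ, g ^ n * c * (g ^ n)⁻¹ = c ^ (r ^ n) := by
      intro n
      induction n with
      | zero => simp
      | succ n ih =>
        calc g ^ (n + 1) * c * (g ^ (n + 1))⁻¹ = g * (g ^ n * c * (g ^ n)⁻¹) * g⁻¹ := by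
              rw [pow_succ']; group
          _ = (g * c * g⁻¹) ^ (r ^ n) := by rw [ih, conj_zpow]
          _ = c ^ (r ^ (n + 1)) := by rw [← hr, ← zpow_mul, pow_succ']
    have hr1 : (p : ℤ) ∣ r - 1 := by
      by_contra hnd
      have h1 : c ^ (i * (r - 1)) = 1 := by
        rw [mul_sub, mul_one, zpow_sub, mul_comm i r, zpow_mul, hr, conj_zpow, hi, hgx.eq,
          mul_inv_cancel_right, mul_inv_cancel]
      rw [← orderOf_dvd_iff_zpow_eq_one, ha] at h1
      push_cast at h1
      have hcop : IsCoprime ((p : ℤ) ^ a) (r - 1) :=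
        ((Nat.prime_iff_prime_int.1 hp.out).coprime_iff_not_dvd.2 hnd).pow_left
      have h2 := hcop.dvd_of_dvd_mul_right h1
      refine hx1 ?_
      rw [← hi, ← orderOf_dvd_iff_zpow_eq_one, ha]
      exact_mod_cast h2
    have hpa : Commute (g ^ p ^ a) c := by
      have h1 : ((p : ℤ) ^ (a + 1)) ∣ r ^ (p ^ a) - 1 ^ (p ^ a) := dvd_sub_pow_of_dvd_sub hr1 a
      rw [one_pow] at h1
      have h2 : c ^ (r ^ (p ^ a)) = c := by
        rw [← mul_inv_eq_one, ← zpow_sub_one, ← orderOf_dvd_iff_zpow_eq_one, ha]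
        push_cast
        exact (pow_dvd_pow _ (Nat.le_succ a)).trans h1
      have := hiter (p ^ a)
      rw [h2] at this
      exact mul_inv_eq_iff_eq_mul.1 this
    obtain ⟨e, m, hm, hem⟩ := Nat.exists_eq_pow_mul_and_not_dvd (orderOf_pos g).ne' p hp.out.ne_one
    have hmP : g ^ m ∈ (P : Subgroup G) :=
      Transfer.isPGroup_mem_of_mem_normalizer P (pow_mem hgN m) e
        (by rw [← pow_mul, mul_comm, ← hem, pow_orderOf_eq_one])
    have hm' : Commute (g ^ m) c := by
      obtain ⟨j, hj⟩ := mem_zpowers_iff.1 (hgen' _ hmP)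
      rw [← hj]; exact (Commute.refl c).zpow_left j
    have hz : ((p ^ a : ℕ) : ℤ) * Nat.gcdA (p ^ a) m + (m : ℤ) * Nat.gcdB (p ^ a) m = 1 := by
      rw [← Nat.gcd_eq_gcd_ab, ((hp.out.coprime_iff_not_dvd.2 hm).pow_left a).gcd_eq_one]; rfl
    rw [← zpow_one g, ← hz, zpow_add, zpow_mul, zpow_mul, zpow_natCast, zpow_natCast]
    exact (hpa.zpow_left _).mul_left (hm'.zpow_left _)
  · intro h g x hx hgx hne
    refine mem_normalizer_of_conj_le fun z hz => ?_
    set y := g⁻¹ * x * g with hy
    have hzy : Commute z y := by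
      obtain ⟨i, rfl⟩ := mem_zpowers_iff.1 (hgen' z hz)
      obtain ⟨j, hj⟩ := mem_zpowers_iff.1 (hgen' y hgx)
      rw [← hj]
      exact Commute.zpow_zpow (Commute.refl c) i j
    have hmem : g * z * g⁻¹ ∈ centralizer ({x} : Set G) := by
      rw [mem_centralizer_singleton_iff]
      calc g * z * g⁻¹ * x = g * (z * y) * g⁻¹ := by rw [hy]; group
        _ = g * (y * z) * g⁻¹ := by rw [hzy.eq]
        _ = x * (g * z * g⁻¹) := by rw [hy]; group
    rw [h x hx hne] at hmem
    obtain ⟨a, ha⟩ := IsPGroup.iff_orderOf.1 P.2 ⟨z, hz⟩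
    rw [orderOf_mk] at ha
    refine Transfer.isPGroup_mem_of_mem_normalizer P (centralizer_le_normalizer _ hmem) a ?_
    rw [conj_pow, ← ha, pow_orderOf_eq_one, mul_one, mul_inv_cancel]

/-! ### Sylow direct factors -/

/-- `G` has a Sylow `p`-subgroup as a direct factor. -/
def HasSylowFactor (p : ℕ) (G : Type*) [Group G] : Prop :=
  ∃ (P : Sylow p G) (K : Subgroup G), (P : Subgroup G).Normal ∧ K.Normal ∧
    (P : Subgroup G) ⊓ K = ⊥ ∧ (P : Subgroup G) ⊔ K = ⊤

theorem mem_factor [Finite G] {p : ℕ} [hp : Fact p.Prime] {P : Sylow p G} {K : Subgroup G}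
    (hPn : (P : Subgroup G).Normal) (hKn : K.Normal) (hd : (P : Subgroup G) ⊓ K = ⊥)
    (hs : (P : Subgroup G) ⊔ K = ⊤) :
    (∀ x, (∃ a, orderOf x = p ^ a) → x ∈ (P : Subgroup G)) ∧
    (∀ y, (∃ q b : ℕ, q.Prime ∧ q ≠ p ∧ orderOf y = q ^ b) → y ∈ K) ∧
    IsComplement' (P : Subgroup G) K := by
  have hc : IsComplement' (P : Subgroup G) K := by
    refine isComplement'_of_disjoint_and_mul_eq_univ (disjoint_iff.2 hd) ?_
    rw [← normal_mul, hs]; rfl
  refine ⟨fun x ⟨a, ha⟩ => ?_, fun y ⟨q, b, hq, hqp, hy⟩ => ?_, hc⟩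
  · exact Transfer.isPGroup_mem_of_mem_normalizer P (by rw [normalizer_eq_top]; trivial) a
      (by rw [← ha, pow_orderOf_eq_one])
  · have hcop : (Nat.card K).Coprime K.index := by
      rw [hc.index_eq_card, ← hc.symm.index_eq_card]
      exact P.card_coprime_index.symm
    refine (OrderCount.mem_iff_pow_card_eq_one K hcop y).2 (orderOf_dvd_iff_pow_eq_one.1 ?_)
    have h1 : orderOf y ∣ Nat.card (P : Subgroup G) * Nat.card K :=
      hc.card_mul ▸ orderOf_dvd_natCard y
    obtain ⟨k, hk⟩ := IsPGroup.iff_card.1 P.2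
    refine Nat.Coprime.dvd_of_dvd_mul_left ?_ h1
    rw [hy, hk]
    exact Nat.Coprime.pow _ _ ((Nat.coprime_primes hq hp.out).2 hqp)

theorem commute_of_factor [Finite G] {p : ℕ} [hp : Fact p.Prime] (h : HasSylowFactor p G) :
    ∀ x y : G, (∃ a : ℕ, orderOf x = p ^ a) →
      (∃ q b : ℕ, q.Prime ∧ q ≠ p ∧ orderOf y = q ^ b) → x * y = y * x := by
  obtain ⟨P, K, hPn, hKn, hd, hs⟩ := h
  obtain ⟨h1, h2, -⟩ := mem_factor hPn hKn hd hs
  intro x y hx hy
  exact commute_of_normal_of_disjoint _ _ hPn hKn (disjoint_iff.2 hd) x y (h1 x hx) (h2 y hy)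

theorem factor_of_commute [Finite G] {p : ℕ} [hp : Fact p.Prime]
    (h : ∀ x y : G, (∃ a : ℕ, orderOf x = p ^ a) →
      (∃ q b : ℕ, q.Prime ∧ q ≠ p ∧ orderOf y = q ^ b) → x * y = y * x) :
    HasSylowFactor p G := by
  let P : Sylow p G := default
  have hcen : ∀ y : G, (∃ q b : ℕ, q.Prime ∧ q ≠ p ∧ orderOf y = q ^ b) →
      y ∈ centralizer ((P : Subgroup G) : Set G) := by
    intro y hy
    rw [mem_centralizer_iff]
    intro x hx
    obtain ⟨a, ha⟩ := IsPGroup.iff_orderOf.1 P.2 ⟨x, hx⟩
    exact h x y ⟨a, by rw [← ha, orderOf_mk]⟩ hy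
  -- all Sylow `p`-subgroups are equal
  have hall : ∀ g : G, g ∈ centralizer ((P : Subgroup G) : Set G) ⊔ (P : Subgroup G) := by
    have hq : ∀ q : ℕ, q.Prime → ∀ (_ : q ∣ Nat.card G),
        q ^ (Nat.card G).factorization q ∣
          Nat.card (centralizer ((P : Subgroup G) : Set G) ⊔ (P : Subgroup G) : Subgroup G) := by
      intro q hq _
      rcases eq_or_ne q p with rfl | hne
      · rw [← P.card_eq_multiplicity]
        exact card_dvd_of_le le_sup_right
      · have := Fact.mk hq
        let S : Sylow q G := default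
        rw [← S.card_eq_multiplicity]
        refine card_dvd_of_le (le_trans (fun y hy => hcen y ?_) le_sup_left)
        obtain ⟨b, hb⟩ := IsPGroup.iff_orderOf.1 S.2 ⟨y, hy⟩
        exact ⟨q, b, hq, hne, by rw [← hb, orderOf_mk]⟩
    intro g
    have htop : centralizer ((P : Subgroup G) : Set G) ⊔ (P : Subgroup G) = ⊤ := by
      refine eq_top_of_card_eq _ (Nat.dvd_antisymm (card_subgroup_dvd_card _) ?_)
      rw [Nat.dvd_iff_prime_pow_dvd_dvd]
      intro q k hqp hd
      rcases k.eq_zero_or_pos with rfl | hk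
      · simp
      exact (pow_dvd_pow q ((hqp.pow_dvd_iff_le_factorization Nat.card_pos.ne').1 hd)).trans
        (hq q hqp ((dvd_pow_self q hk.ne').trans hd))
    rw [htop]; trivial
  have hPn : (P : Subgroup G).Normal := by
    rw [← normalizer_eq_top_iff, eq_top_iff]
    intro g _
    exact sup_le (centralizer_le_normalizer _) le_normalizer (hall g)
  obtain ⟨K, hK⟩ := exists_right_complement'_of_coprime (N := (P : Subgroup G)) P.card_coprime_index
  have hKc : K ≤ centralizer ((P : Subgroup G) : Set G) := by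
    intro y hy
    refine ClassMul.mem_of_forall_primary _ y fun q k hq hk hd => hcen _ ⟨q, k, hq, ?_, ?_⟩
    · rintro rfl
      refine P.not_dvd_index ?_
      rw [hK.symm.index_eq_card]
      exact ((dvd_pow_self q hk.ne').trans hd).trans (K.orderOf_dvd_natCard hy)
    · exact orderOf_pow_orderOf_div (orderOf_pos y).ne' hd
  refine ⟨P, K, hPn, ⟨fun z hz g => ?_⟩, hK.disjoint.eq_bot, hK.sup_eq_top⟩
  obtain ⟨⟨⟨x, hx⟩, ⟨w, hw⟩⟩, rfl⟩ := hK.2 g
  show x * w * z * (x * w)⁻¹ ∈ K
  have h1 : x * (w * z * w⁻¹) = w * z * w⁻¹ * x :=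
    mem_centralizer_iff.1 (hKc (mul_mem (mul_mem hw hz) (inv_mem hw))) x hx
  rw [show x * w * z * (x * w)⁻¹ = x * (w * z * w⁻¹) * x⁻¹ by group, h1, mul_inv_cancel_right]
  exact mul_mem (mul_mem hw hz) (inv_mem hw)

theorem index_centralizer_eq_ncard [Finite G] (u : G) :
    (centralizer ({u} : Set G)).index = (MulAction.orbit (ConjAct G) u).ncard := by
  rw [show (centralizer ({u} : Set G)).index = (MulAction.stabilizer (ConjAct G) u).index by
      rw [centralizer_eq_comap_stabilizer]
      exact index_comap_of_surjective _ ConjAct.toConjAct.surjective,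
    MulAction.index_stabilizer]

/-- S3987. -/
theorem factor_iff_class_mul [Finite G] {p : ℕ} [hp : Fact p.Prime] :
    HasSylowFactor p G ↔ ∀ x y : G, (∃ a : ℕ, orderOf x = p ^ a) →
      (∃ q b : ℕ, q.Prime ∧ q ≠ p ∧ orderOf y = q ^ b) →
      (centralizer ({x * y} : Set G)).index =
        (centralizer ({x} : Set G)).index * (centralizer ({y} : Set G)).index := by
  constructor
  · intro hf x y hx hy
    have hcomm : Commute x y := commute_of_factor hf x y hx hy
    obtain ⟨P, K, hPn, hKn, hd, hs⟩ := hf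
    obtain ⟨h1, h2, hc⟩ := mem_factor hPn hKn hd hs
    have hinf : centralizer ({x * y} : Set G) =
        centralizer ({x} : Set G) ⊓ centralizer ({y} : Set G) := by
      ext g
      simp only [mem_inf, mem_centralizer_singleton_iff]
      constructor
      · intro hg
        obtain ⟨a, ha⟩ := hx
        obtain ⟨q, b, hq, hqp, hb⟩ := hy
        have hcop : (orderOf x).Coprime (orderOf y) := by
          rw [ha, hb]; exact Nat.Coprime.pow _ _ ((Nat.coprime_primes hp.out hq).2 hqp.symm)
        have hz : ((orderOf x : ℕ) : ℤ) * Nat.gcdA (orderOf x) (orderOf y)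
            + (orderOf y : ℤ) * Nat.gcdB (orderOf x) (orderOf y) = 1 := by
          rw [← Nat.gcd_eq_gcd_ab, hcop.gcd_eq_one]; rfl
        have hxy : (x * y) ^ ((orderOf y : ℤ) * Nat.gcdB (orderOf x) (orderOf y)) = x := by
          conv_rhs => rw [← zpow_one x, ← hz, zpow_add, zpow_mul, zpow_natCast, pow_orderOf_eq_one,
            one_zpow, one_mul]
          rw [hcomm.mul_zpow, zpow_mul y, zpow_natCast, pow_orderOf_eq_one, one_zpow, mul_one]
        have hgx : Commute g x := by
          have := Commute.zpow_right (show Commute g (x * y) from hg)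
            ((orderOf y : ℤ) * Nat.gcdB (orderOf x) (orderOf y))
          rwa [hxy] at this
        refine ⟨hgx, ?_⟩
        have hh := hgx.inv_right.mul_right (show Commute g (x * y) from hg)
        rw [inv_mul_cancel_left] at hh
        exact hh
      · rintro ⟨a, b⟩
        exact Commute.mul_right a b
    rw [hinf]
    have hdK : (centralizer ({x} : Set G)).index ∣ K.index := index_dvd_of_le fun k hk =>
      mem_centralizer_singleton_iff.2
        (commute_of_normal_of_disjoint _ _ hPn hKn (disjoint_iff.2 hd) x k (h1 x hx) hk).symm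
    have hdP : (centralizer ({y} : Set G)).index ∣ (P : Subgroup G).index :=
      index_dvd_of_le fun z hz => mem_centralizer_singleton_iff.2
        (commute_of_normal_of_disjoint _ _ hPn hKn (disjoint_iff.2 hd) z y hz (h2 y hy))
    have hcop : ((centralizer ({x} : Set G)).index).Coprime (centralizer ({y} : Set G)).index := by
      refine (Nat.Coprime.coprime_dvd_left hdK ?_).coprime_dvd_right hdP
      rw [hc.index_eq_card]
      exact P.card_coprime_index
    refine le_antisymm index_inf_le (Nat.le_of_dvd (Nat.pos_of_ne_zero index_ne_zero_of_finite) ?_)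
    exact hcop.mul_dvd_of_dvd_of_dvd (index_dvd_of_le inf_le_left) (index_dvd_of_le inf_le_right)
  · intro h
    refine factor_of_commute fun x y hx hy => ?_
    classical
    set X := (MulAction.orbit (ConjAct G) x).toFinite.toFinset
    set Y := (MulAction.orbit (ConjAct G) y).toFinite.toFinset
    have hinj : Set.InjOn (fun z : G × G => z.1 * z.2) ↑(X ×ˢ Y) := by
      rw [← Finset.card_image_iff]
      refine le_antisymm Finset.card_image_le ?_
      rw [Finset.card_product, ← Set.ncard_eq_toFinset_card _, ← Set.ncard_eq_toFinset_card _,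
        ← index_centralizer_eq_ncard, ← index_centralizer_eq_ncard, ← h x y hx hy,
        index_centralizer_eq_ncard, ← Set.ncard_coe_finset]
      refine Set.ncard_le_ncard ?_
      rintro _ ⟨g, rfl⟩
      simp only [Finset.coe_image, Set.mem_image, Finset.mem_coe, Finset.mem_product]
      exact ⟨(g • x, g • y), ⟨by simp [X], by simp [Y]⟩, by simp [smul_mul']⟩
    have h1 := @hinj (y * x * y⁻¹, y) (by
        simp only [Finset.coe_product, Set.mem_prod, X, Y, Set.Finite.coe_toFinset]
        exact ⟨⟨ConjAct.toConjAct y, by simp [ConjAct.smul_def]⟩, MulAction.mem_orbit_self y⟩)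
      (x, x⁻¹ * y * x) (by
        simp only [Finset.coe_product, Set.mem_prod, X, Y, Set.Finite.coe_toFinset]
        exact ⟨MulAction.mem_orbit_self x, ⟨ConjAct.toConjAct x⁻¹, by simp [ConjAct.smul_def]⟩⟩)
      (by simp [mul_assoc])
    have h2 : y * x * y⁻¹ = x := congrArg Prod.fst h1
    exact (mul_inv_eq_iff_eq_mul.1 h2).symm

end CfsgLib.LocalFG8
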